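import Cfsg.Agent.TO.S4.Tor
import Cfsg.Agent.TO.Can2
import Cfsg.Agent.SB.TwF.Nil
import Cfsg.Agent.H670.Hg.Cls
import Cfsg.Agent.Blocks.FullDefect

/-!
# S4817, the row of `²F₄(q)`: block theoretic lemmas (helper15)

* `neg_of_trans` : a group which is transitive on the nontrivial elements of a group `p²` contains the inversion;
* `false_of_tor` : `Out` of odd order, the centraliser of `D` is a torus of odd order;
* `prin_of_cent` : no nontrivial `p`-regular element centralises the defect group.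
-/

set_option autoImplicit false

namespace Cfsg.Agent.TO.TF

open Cfsg Subgroup

/-- **the inversion** -/
theorem neg_of_trans {G : Type*} [Group G] [Finite G] {p : ℕ} [hp : Fact p.Prime] (h2 : p ≠ 2) {D : Subgroup G}
    (hD : D ≤ Ce D) (hc : Nat.card D = p ^ 2) {L : Subgroup (MulAut G)} (hL : ∀ α ∈ L, ∀ d ∈ D, α d ∈ D)
    (htr : ∀ u ∈ D, ∀ v ∈ D, u ≠ 1 → v ≠ 1 → ∃ α ∈ L, α u = v) :
    ∃ α ∈ L, (∃ k : ℕ, α ^ 2 ^ k = 1) ∧ ∀ d ∈ D, α d = d⁻¹ := by
  have := Fact.mk Nat.prime_two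
  have hp1 := hp.out.one_lt
  let P : Sylow 2 L := default
  obtain ⟨e, e1, e2⟩ : ∃ e, 2 ^ (e + 1) ∣ p ^ 2 - 1 ∧ ¬ 2 ^ (e + 1) ∣ p - 1 :=
    ⟨(p - 1).factorization 2, by
      rw [show p ^ 2 - 1 = (p + 1) * (p - 1) from Nat.sq_sub_sq p 1, pow_succ' 2]
      exact mul_dvd_mul (hp.out.odd_of_ne_two h2).add_one.two_dvd (Nat.ordProj_dvd _ _),
      Nat.pow_succ_factorization_not_dvd (by omega) Nat.prime_two⟩
  have key : ∀ u ∈ D, u ≠ 1 → 2 ^ (e + 1) ∣ (MulAction.stabilizer (P : Subgroup L) u).index := fun u hu h1 => by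
    have h3 : MulAction.orbit L u = (D : Set G) \ {1} := Set.ext fun v => ⟨by
      rintro ⟨α, rfl⟩
      exact ⟨hL α α.2 u hu, fun h => h1 ((map_eq_one_iff α.1 α.1.injective).1 h)⟩, fun hv => by
      obtain ⟨α, h4, h5⟩ := htr u hu v hv.1 h1 hv.2
      exact ⟨⟨α, h4⟩, h5⟩⟩
    have h4 : (MulAction.stabilizer L u).index = p ^ 2 - 1 := by
      rw [MulAction.index_stabilizer, h3, Set.ncard_sdiff_singleton_of_mem D.one_mem, ← hc]
      rfl
    have h5 : (MulAction.stabilizer L u ⊓ P).relIndex P * (P : Subgroup L).index =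
        (MulAction.stabilizer L u ⊓ P).relIndex (MulAction.stabilizer L u) * (p ^ 2 - 1) := by
      rw [← h4, relIndex_mul_index inf_le_right, relIndex_mul_index inf_le_left]
    rw [inf_relIndex_right] at h5
    exact (Nat.Coprime.pow_left _ ((Nat.Prime.coprime_iff_not_dvd Nat.prime_two).2 P.not_dvd_index)).dvd_of_dvd_mul_right
      (h5 ▸ e1.mul_left _)
  let S : SubMulAction (P : Subgroup L) G := ⟨D, fun r {d} hd => hL r.1.1 r.1.2 d hd⟩
  let φ := MulAction.toPermHom (P : Subgroup L) S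
  have hφ : ∀ r s : (P : Subgroup L), φ r = φ s → ∀ d ∈ D, r.1.1 d = s.1.1 d := fun r s h d hd =>
    congrArg Subtype.val (Equiv.congr_fun h ⟨d, hd⟩)
  have h3 : IsPGroup 2 φ.range := P.isPGroup'.of_surjective _ φ.rangeRestrict_surjective
  have h4 : Nontrivial φ.range := by
    have : Nontrivial D := Finite.one_lt_card_iff_nontrivial.1 (hc ▸ Nat.one_lt_pow two_ne_zero hp1)
    obtain ⟨u, hu⟩ := exists_ne (1 : D)
    by_contra h5
    have h6 := key u u.2 fun h => hu (Subtype.ext h)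
    rw [show MulAction.stabilizer (P : Subgroup L) (u : G) = ⊤ from eq_top_iff.2 fun r _ => hφ r 1 (congrArg Subtype.val
      ((not_nontrivial_iff_subsingleton.1 h5).elim (φ.rangeRestrict r) (φ.rangeRestrict 1))) u u.2, index_top,
      Nat.dvd_one, Nat.pow_eq_one] at h6
    omega
  have := h3.center_nontrivial
  obtain ⟨⟨z, z1⟩, z2⟩ := exists_ne (1 : center φ.range)
  obtain ⟨k, hk⟩ := h3 z
  obtain ⟨j, j1, j2⟩ := Cn.exists_invol (fun h4 => z2 (Subtype.ext h4)) k hk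
  have j3 := pow_mem z1 j
  generalize z ^ j = y at j1 j2 j3
  obtain ⟨s, rfl⟩ := φ.rangeRestrict_surjective y
  have s1 : ∀ d ∈ D, s.1.1 (s.1.1 d) = d := hφ (s * s) 1 (by
    rw [map_mul, map_one]
    exact congrArg Subtype.val j2)
  have s2 : ∀ r : (P : Subgroup L), ∀ d ∈ D, r.1.1 (s.1.1 d) = s.1.1 (r.1.1 d) := fun r => hφ (r * s) (s * r) (by
    rw [map_mul, map_mul]
    exact congrArg Subtype.val (mem_center_iff.1 j3 (φ.rangeRestrict r)))
  let F : Subgroup G := D ⊓ s.1.1.toMonoidHom.eqLocus (MonoidHom.id G)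
  have s3 : F = ⊥ := by
    obtain ⟨i, hi, h5⟩ := (Nat.dvd_prime_pow hp.out).1 (hc ▸ card_dvd_of_le (inf_le_left : F ≤ D))
    interval_cases i
    · exact card_eq_one.1 h5
    · exfalso
      let S' : SubMulAction (P : Subgroup L) G := ⟨(F : Set G) \ {1}, fun r {d} hd =>
        ⟨⟨hL r.1.1 r.1.2 d hd.1.1, (s2 r d hd.1.1).symm.trans (congrArg r.1.1 hd.1.2)⟩,
          fun h => hd.2 ((map_eq_one_iff r.1.1 r.1.1.injective).1 h)⟩⟩
      have h6 : Nat.card S' = p - 1 := by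
        rw [← pow_one p, ← h5]
        exact Set.ncard_sdiff_singleton_of_mem F.one_mem
      obtain ⟨x, hx⟩ := SB.TwF.exists_stab (X := S') Nat.prime_two P.isPGroup' (h6 ▸ e2)
      rw [SubMulAction.stabilizer_of_subMul] at hx
      exact absurd (Nat.le_of_dvd (by positivity) ((key x x.2.1.1 x.2.2).trans hx))
        (not_le.2 (Nat.pow_lt_pow_right one_lt_two e.lt_succ_self))
    · refine absurd (Subtype.ext (Equiv.ext fun d => Subtype.ext ?_)) j1
      exact ((eq_of_le_of_card_ge (inf_le_left : F ≤ D) (by rw [h5, hc])).ge d.2).2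
  refine ⟨s.1.1, s.1.2, ?_, fun d hd => ?_⟩
  · obtain ⟨k, hk⟩ := P.isPGroup' s
    exact ⟨k, congrArg (fun x : (P : Subgroup L) => x.1.1) hk⟩
  · have h5 : d * s.1.1 d ∈ F := ⟨mul_mem hd (hL _ s.1.2 d hd), by
      show s.1.1 (d * s.1.1 d) = d * s.1.1 d
      rw [map_mul, s1 d hd, hD hd _ (hL _ s.1.2 d hd)]⟩
    rw [s3, mem_bot] at h5
    exact eq_inv_of_mul_eq_one_right h5

variable {G : Type} [Group G] [Finite G] {p : ℕ} [hp : Fact p.Prime] {M : Ideal AlgInt} {b : Set (IrrCharacter G)}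
  {D : Subgroup G}

/-- **the block would be principal** -/
theorem false_of_tor (B : Blk) (H : Two p M b D) (hG : commutator G = ⊤) (hO : Odd (Nat.card (Out G))) (hD : D ≤ Ce D)
    (hc : Nat.card D = p ^ 2) (comm : ∀ a ∈ Ce D, ∀ b ∈ Ce D, a * b = b * a)
    (inv : ∀ t : G, (∀ d ∈ D, t * d * t⁻¹ = d⁻¹) → ∀ c ∈ Ce D, t * c * t⁻¹ = c⁻¹)
    (odd : ∀ c ∈ Ce D, c * c = 1 → c = 1) : False := by
  obtain ⟨θ, hθ⟩ := B.can0 G p M b D H.hM H.hb H.hD hD
  obtain ⟨α, ht, ⟨k, hk⟩, h1⟩ := neg_of_trans H.odd hD hc (L := LA D θ) (fun α hα d hd => (hα.1 d).2 hd)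
    (B.can2 G p M b D θ H hθ).1
  obtain ⟨t, rfl⟩ : α ∈ Inn G := by
    rw [← QuotientGroup.eq_one_iff, ← orderOf_eq_one_iff]
    refine Nat.eq_one_of_dvd_coprimes ((Nat.coprime_two_left.2 hO).pow_left k) (orderOf_dvd_of_pow_eq_one ?_)
      (orderOf_dvd_natCard _)
    rw [← QuotientGroup.mk_pow, hk, QuotientGroup.mk_one]
  have hc : ∀ a b : Ce D, a * b = b * a := fun a b => Subtype.ext (comm a a.2 b b.2)
  have h2 := Characters.CCBasic.irr_mul_of_comm hc hθ.irr
  have h3 : Function.Injective fun c : Ce D => c * c := fun a b e => by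
    have e' : a * a = b * b := e
    have h4 : a * b⁻¹ * (a * b⁻¹) = 1 := by
      rw [mul_assoc, ← mul_assoc b⁻¹, hc b⁻¹ a, mul_assoc a, ← mul_assoc a a, e']
      group
    exact mul_inv_eq_one.1 (Subtype.ext (odd _ (a * b⁻¹).2 (congrArg Subtype.val h4)))
  refine B.np G p M b D H hG ((B.can1 G p M b D θ hθ).prin fun c hc' => ?_)
  obtain ⟨a, ha⟩ := Finite.injective_iff_surjective.1 h3 ⟨c, hc'⟩
  have h4 : θ (a⁻¹ : Ce D) = θ a := (congrArg θ (inv t h1 a a.2)).symm.trans (ht.2 a)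
  have h5 := h2 a a⁻¹
  rw [mul_inv_cancel, h4, ← h2, show a * a = ⟨c, hc'⟩ from ha] at h5
  exact h5.symm.trans (Characters.CCBasic.irr_apply_one_of_comm hc hθ.irr)

/-- **only the principal block has this defect group** -/
theorem prin_of_cent (hM : IsPModular p M) (hb : IsPBlock M b) (hD : IsDefectGroup p M b D) (hn : D ≠ ⊥)
    (h : ∀ y ∈ Ce D, ¬ p ∣ orderOf y → y = 1) : (fun _ => (1 : ℂ)) ∈ Fn b := by
  have hMp : M.IsPrime := hM.2.1.isPrime
  have h1 := S0908.result p M hM b hb D hD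
  obtain ⟨g, hg, P, e⟩ := hD
  have g1 : g = 1 := h g (fun d hd => by
    rw [e] at hd
    obtain ⟨d, -, rfl⟩ := hd
    exact mem_centralizer_singleton_iff.1 d.2) fun h2 => hg.2.1 (by
      rw [H670.Hg.blockCoeff_singular hM hb h2]
      exact Blocks.Local.memLocalIdeal_zero)
  have h2 : Nat.card D = p ^ (Nat.card G).factorization p := by
    rw [e, card_map_of_injective (subtype_injective _), P.card_eq_multiplicity, g1,
      show centralizer ({(1 : G)} : Set G) = ⊤ from eq_top_iff.2 fun x _ => mem_centralizer_singleton_iff.2 (by simp),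
      card_top]
  have h3 : (Nat.card G).factorization p ≠ 0 := fun h4 => hn (card_eq_one.1 (by rw [h2, h4, pow_zero]))
  have h4 := Nat.pow_right_injective hp.out.two_le (h1.symm.trans h2)
  obtain ⟨χ, rfl⟩ := hb
  obtain ⟨ψ, k1, k2⟩ := Nat.sInf_mem (s := (fun ψ : IrrCharacter G => (charDegree (ψ : G → ℂ)).factorization p) ''
    blockOf M (χ : G → ℂ)) ⟨_, χ, Blocks.Basic.mem_blockOf_self χ, rfl⟩
  have k3 : (charDegree (ψ : G → ℂ)).factorization p = 0 := by
    unfold blockDefect at h4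
    simp only at k2
    omega
  have k4 := H670.Hg.mem_principal_of_class hM ψ (by omega) fun y y1 y2 y3 => by
    obtain ⟨x, hx⟩ := Blocks.FullDefect.exists_conj_mem_centralizer (Sylow.ofCard D h2) (g := y) fun y4 => by
      rw [k3, Nat.sub_zero] at y3
      have y5 := mul_dvd_mul y3 y4
      rw [card_mul_index, ← pow_succ] at y5
      exact Nat.pow_succ_factorization_not_dvd Nat.card_pos.ne' hp.out y5
    have y6 := h _ hx (by rwa [← MulAut.conj_apply, MulEquiv.orderOf_eq])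
    exact y1 (conj_eq_one_iff.1 y6)
  exact ⟨⟨fun _ => 1, Characters.Core.isIrr_one⟩,
    Blocks.Osima.sameBlock_trans hM k1 (Blocks.Osima.sameBlock_symm k4), rfl⟩

end Cfsg.Agent.TO.TF
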