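import Cfsg.Agent.TO.TF.Grp
import Cfsg.Agent.TO.TF.Neg
import Cfsg.Agent.BHZ.Exc.TF4
import Cfsg.Agent.H95.StemCover
import Cfsg.Agent.H548.Crit
import Cfsg.Agent.S2128

/-!
# S4817: the row of the large Ree groups `²F₄(q)` (helper15)
-/

set_option autoImplicit false

namespace Cfsg.Agent.TO.TF

open Cfsg Subgroup

/-- **the field `tf4` of `Rows`** -/
theorem rowTF4 (B : Blk) : RowFor (fun _ S _ => Lie.Iso2F4 S) := by
  rintro p hp hp2 S _ _ _ _ ⟨K, _, _, m, hm, hK, ⟨e⟩⟩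
  refine Row.of_equiv e fun G _ _ σ M b D H => ?_
  have hfin : Finite ↥(Lie.twistedF4 K (2 ^ m)) := inferInstance
  have h1 := H95.StemCover.card_ker_dvd_cyclic (S2114.result hm hK) H.perf σ H.surj H.ker.le
  rw [Nat.dvd_one, card_eq_one, MonoidHom.ker_eq_bot_iff] at h1
  have P := B.pure G p M b D _ σ H
  have hD : IsPGroup p D := P.pg.of_equiv (D.equivMapOfInjective σ h1).symm
  have he : ∀ d ∈ D, d ^ p = 1 := fun d hd => h1 (by
    obtain ⟨k, hk⟩ := IsPGroup.iff_orderOf.1 P.pg ⟨σ d, d, hd, rfl⟩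
    rw [map_pow, map_one]
    exact P.expo _ (BHZ.Nil.self_le_KK _ ⟨d, hd, rfl⟩) ⟨k, (orderOf_coe _).trans hk⟩)
  by_cases hab : IsMulCommutative (D.map σ)
  · have h2 : D ≤ Ce D := fun a ha c hc => h1 (by
      rw [map_mul, map_mul]
      exact congrArg Subtype.val (hab.1.1 ⟨σ c, c, hc, rfl⟩ ⟨σ a, a, ha, rfl⟩))
    have : NeZero p := ⟨hp.out.ne_zero⟩
    obtain ⟨t, n, T⟩ := exists_st hK σ h1 hp2 H.nc he h2
    refine false_of_tor B H.toTwo H.perf ?_ h2 ?_ (fun a ha c hc => T.comm ha hc) (fun t ht c hc => T.inv ht hc)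
      fun c hc => T.odd hc
    · rw [H548.Crit.card_out_congr (MulEquiv.ofBijective σ ⟨h1, H.surj⟩), S2128.result hm hK]
      exact odd_two_mul_add_one m
    · obtain ⟨j, hj⟩ := IsPGroup.iff_card.1 hD
      have h3 := T.card_le he
      rw [hj, Nat.pow_le_pow_iff_right hp.out.one_lt] at h3
      rw [hj]
      congr 1
      by_contra h4
      exact H.nc (isCyclic_of_card_dvd_prime (p := p) (hj ▸ (pow_dvd_pow p (by omega)).trans (pow_one p).dvd))
  by_cases h3 : p = 3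
  · subst h3
    refine B.np G 3 M b D H.toTwo H.perf (prin_of_cent H.hM H.hb H.hD (fun h => H.nc (by rw [h]; infer_instance))
      fun y hy hr => h1 ?_)
    rw [map_one, ← MonoidHom.mem_ker, H.ker, mem_center_iff]
    refine fun x => h1 ?_
    rw [map_mul, map_mul]
    refine (BHZ.Nil.mem_KK_iff.1 (BHZ.Exc.TF.KK_top hK hm P.pg hab ▸ mem_top (σ x)) (σ y) ?_ ?_).symm
    · rintro _ ⟨d, hd, rfl⟩
      rw [← map_mul, ← map_mul, hy d hd]
    · rwa [orderOf_injective σ h1]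
  · have := ChevalleyStructure.F4Fixed.charP_two hK
    exact hab (H42.Tw.abelian_twF4 (hp.out.five_le_of_ne_two_of_ne_three hp2 h3) P.pg)

end Cfsg.Agent.TO.TF
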