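import Cfsg.Agent.TO.TF.Lat
import Cfsg.Agent.TO.Defs
import Cfsg.Agent.DS.Nt.Kac
import Cfsg.Agent.SB.TwF.Tor

/-!
# S4817, the row of `²F₄(q)`: noncyclic toral subgroups (helper15)

The centraliser of a noncyclic toral subgroup `E` is toral, of rank two, and inverted by the elements which invert `E`.
-/

set_option autoImplicit false
set_option linter.unusedSectionVars false

namespace Cfsg.Agent.TO.TF

open CoxeterSystem Cfsg Cfsg.Lie Cfsg.Lie.ChevalleyDatum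
open Cfsg.Agent.ChevalleyStructure Cfsg.Agent.ChevalleyStructure.Elts Cfsg.Agent.ChevalleyStructure.CoxeterGeom
  Cfsg.Agent.ChevalleyStructure.CoxeterGeomTypes
open Cfsg.Agent.Tits.Roots Cfsg.Agent.Tits.Core Cfsg.Agent.Nodes Cfsg.Agent.Nodes.Reps Cfsg.Agent.Nodes.BNOf
  Cfsg.Agent.Nodes.RGDChev
open Cfsg.Agent.KFacts.RgdField Cfsg.Agent.KFacts.RgdChevCoord
open Cfsg.Agent.BpExc Cfsg.Agent.BpExc.TorCent Cfsg.Agent.BpExc.TorChev
open Cfsg.Agent.H469.Exc Cfsg.Agent.H129.TorusChar Cfsg.Agent.DS.Ex Cfsg.Agent.DS.Nt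
open Cfsg.Agent.H448.FprCent Cfsg.Agent.BHZ.Exc.TF Cfsg.Agent.H493.F4End Cfsg.Agent.H759.TwF
open Cfsg.Agent.H493.F4Tor (hp ste_TT)

local notation "𝕐" => YY chevF4 2
local notation "𝕋" => TT chevF4 (KK 2)
local notation "𝕔" => CoxeterMatrix.F₄.toCoxeterSystem
local notation "𝕣" => rep CoxeterMatrix.F₄.toCoxeterSystem (IsType.isCartan hp)

/-- the torus separates the points of the lattice -/
theorem sep {x y : L4} (h : ∀ s ∈ 𝕋, cX hp s x = cX hp s y) : x = y := by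
  funext i
  by_contra hi
  have hN : ((2 * (x i - y i).natAbs + 1 : ℕ) : KK 2) ≠ 0 := fun e => by
    have := (CharP.cast_eq_zero_iff (KK 2) 2 _).1 e
    omega
  have : NeZero ((2 * (x i - y i).natAbs + 1 : ℕ) : KK 2) := ⟨hN⟩
  have : NeZero (2 * (x i - y i).natAbs + 1) := ⟨by omega⟩
  obtain ⟨ζ, hζ⟩ := HasEnoughRootsOfUnity.exists_primitiveRoot (KK 2) (2 * (x i - y i).natAbs + 1)
  have h0 : ζ ≠ 0 := hζ.ne_zero (by omega)
  obtain ⟨s, hs, h1⟩ := exists_cX hp invC_F4 one_ne_zero (φ := fun v => ζ ^ v i)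
    ⟨by simp, fun a b => by rw [Pi.add_apply, zpow_add₀ h0]⟩ fun j => ⟨_, pow_one _⟩
  have h2 := h s hs
  rw [h1, h1, ← div_eq_one_iff_eq (zpow_ne_zero _ h0), ← zpow_sub₀ h0, hζ.zpow_eq_one_iff_dvd, Int.natCast_dvd] at h2
  have h3 := Nat.le_of_dvd (Int.natAbs_pos.2 (sub_ne_zero.2 hi)) h2
  omega

variable {G : Type*} [Group G] [Finite G] {m : ℕ} {t : G →* 𝕐} {n : 𝕐} {E : Subgroup G}

/-- `G` is embedded into the fixed points of a Steinberg endomorphism, `E` is toral and not cyclic -/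
structure St (m : ℕ) (t : G →* 𝕐) (n : 𝕐) (E : Subgroup G) : Prop where
  inj : Function.Injective t
  fix : ∀ x, n * ste (KK 2) m (t x) * n⁻¹ = t x
  tor : ∀ e ∈ E, t e ∈ 𝕋
  nc : ¬ IsCyclic E

namespace St

variable (S : St m t n E)
include S

theorem not_det {y : L4} (h : ∀ e ∈ E, cX hp (t e) y = 1 → ∀ v, cX hp (t e) v = 1) : False := by
  let φ : E →* KK 2 :=
    { toFun := fun e => cX hp (t e) y
      map_one' := by rw [OneMemClass.coe_one, map_one, cX_one]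
      map_mul' := fun a b => by rw [Subgroup.coe_mul, map_mul, cX_mul hp (S.tor a a.2) (S.tor b b.2)] }
  refine S.nc (isCyclic_of_injective_ringHom φ ((injective_iff_map_eq_one φ).2 fun e he => Subtype.ext (S.inj ?_)))
  rw [OneMemClass.coe_one, map_one]
  exact cX_inj hp (S.tor e e.2) (one_mem _) fun i => by rw [h e e.2 he, cX_one]

theorem exists_rho : ∃ w, RP hp 2 w n ∧ Rig 𝕔 (Rl 0 * 𝕣 w⁻¹) ∧ Mz hp 2 (Set.range fun e : E => t e) = ⊥ := by
  obtain ⟨a, ha, w, k, hk, h1, h2⟩ := form₂ hp (s := fun e : E => ste (KK 2) m (t e)) (t := fun e : E => t e)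
    (fun e => ste_TT (S.tor e e.2)) (fun e => S.tor e e.2) (c := n) fun e => mul_inv_eq_iff_eq_mul.1 (S.fix e)
  have h3 : ∀ e ∈ E, ∀ v, cX hp (t e) ((Rl 0 * 𝕣 w⁻¹) v) ^ 2 ^ m = cX hp (t e) v := fun e he v => by
    rw [← (isMC_cX hp (S.tor e he)).nsmul, Module.End.mul_apply, ← Rl_eq, ← cX_ste_all m (S.tor e he),
      ← hk.cX (ste_TT (S.tor e he)), rep_apply_inv, mul_inv_eq_iff_eq_mul.2 (h1 ⟨e, he⟩)]
  rcases lat 𝕔 w⁻¹ with ⟨v, hv⟩ | R
  · refine (S.not_det (y := (Rl 0 * 𝕣 w⁻¹) ((Rl 0 * 𝕣 w⁻¹) v)) fun e he h4 =>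
      hv.triv (isMC_cX hp (S.tor e he)) (h3 e he) ?_ h4).elim
    rw [← h3 e he, ← h3 e he, h4, one_pow, one_pow]
  have h4 : Mz hp 2 (Set.range fun e : E => t e) = ⊥ := by
    refine eq_bot_iff.2 (Mz_le fun b hb => ?_)
    rw [mem_Ps (by rintro _ ⟨e, rfl⟩; exact S.tor e e.2)] at hb
    obtain ⟨g, hg⟩ := R.root b hb.1
    exact (S.not_det (y := g) fun e he => hg.triv (isMC_cX hp (S.tor e he)) (h3 e he) (hb.2 _ ⟨⟨e, he⟩, rfl⟩)).elim
  rw [h4, Subgroup.mem_bot] at ha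
  rw [h2, ha, one_mul]
  exact ⟨w, hk, R, h4⟩

omit S in
theorem cX_tau {w : CoxeterMatrix.F₄.Group} (hw : RP hp 2 w n) {s : 𝕐} (hs : s ∈ 𝕋) (v : L4) :
    cX hp (n * ste (KK 2) m s * n⁻¹) v = cX hp s (2 ^ m • (Rl 0 * 𝕣 w⁻¹) v) := by
  rw [Module.End.mul_apply, ← Rl_eq, ← cX_ste_all m hs, ← hw.cX (ste_TT hs), rep_apply_inv]

theorem rho {w : CoxeterMatrix.F₄.Group} (hw : RP hp 2 w n) {x : G} (hx : t x ∈ 𝕋) (v : L4) :
    cX hp (t x) ((Rl 0 * 𝕣 w⁻¹) v) ^ 2 ^ m = cX hp (t x) v := by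
  rw [← (isMC_cX hp hx).nsmul, ← cX_tau hw hx, S.fix]

/-- the normaliser of `E` normalises the torus -/
theorem norm {w : CoxeterMatrix.F₄.Group} (hw : RP hp 2 w n) (hM : Mz hp 2 (Set.range fun e : E => t e) = ⊥) {c : G}
    (hc : ∀ e ∈ E, c⁻¹ * e * c ∈ E) : ∃ u, RP hp 2 u (t c) ∧ Iso 𝕔 (Rl 0 * 𝕣 w⁻¹) (𝕣 u) := by
  obtain ⟨a, ha, u, k, hk, -, h2⟩ := form₂ hp (s := fun e : E => t (c⁻¹ * e * c)) (t := fun e : E => t e)
    (fun e => S.tor _ (hc e e.2)) (fun e => S.tor e e.2) (c := t c) fun e => by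
      rw [← map_mul, ← map_mul, mul_assoc, mul_inv_cancel_left]
  rw [hM, Subgroup.mem_bot] at ha
  rw [ha, one_mul] at h2
  rw [← h2] at hk
  refine ⟨u, hk, fun a ha => ha.act u, Q_rep 𝕔 u, fun x => ?_⟩
  refine smul_right_injective (M := L4) (r := (2 ^ m : ℕ)) (by positivity) (sep fun s hs => ?_)
  obtain ⟨s, rfl⟩ : ∃ s', s = t c * s' * (t c)⁻¹ := ⟨(t c)⁻¹ * s * t c, by group⟩
  have hs' := (hk.conj_iff s).1 hs
  have e : n * ste (KK 2) m (t c * s * (t c)⁻¹) * n⁻¹ = t c * (n * ste (KK 2) m s * n⁻¹) * (t c)⁻¹ := by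
    conv_rhs => rw [← S.fix c]
    rw [map_mul, map_mul, map_inv]
    group
  change cX hp _ (2 ^ m • _) = cX hp _ (2 ^ m • _)
  rw [← map_nsmul, hk.cX hs', ← cX_tau hw hs, ← cX_tau hw hs', e, hk.cX (hw.conj_mem (ste_TT hs'))]

theorem eq_of_iso {w : CoxeterMatrix.F₄.Group} (hw : RP hp 2 w n) (R : Rig 𝕔 (Rl 0 * 𝕣 w⁻¹)) {u : Module.End ℤ L4}
    (hu : Iso 𝕔 (Rl 0 * 𝕣 w⁻¹) u) (h : ∀ e ∈ E, ∀ x, cX hp (t e) (u x) = cX hp (t e) x) (x : L4) : u x = x := by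
  rcases R.iso u hu with h1 | ⟨y, g, h1⟩
  · exact h1 x
  · refine (S.not_det (y := g) fun e he => h1.triv (isMC_cX hp (S.tor e he)) (S.rho hw (S.tor e he)) ?_).elim
    rw [(isMC_cX hp (S.tor e he)).sub, h e he, div_self ((isMC_cX hp (S.tor e he)).ne_zero _)]

/-- **the centraliser is toral** -/
theorem cent {c : G} (hc : c ∈ Ce E) : t c ∈ 𝕋 := by
  obtain ⟨w, hw, R, hM⟩ := S.exists_rho
  obtain ⟨u, hu, I⟩ := S.norm hw hM (c := c) fun e he => by rwa [mul_assoc, hc e he, inv_mul_cancel_left]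
  have h1 : 𝕣 u = 𝕣 1 := LinearMap.ext fun x => by
    rw [map_one, Module.End.one_apply]
    exact S.eq_of_iso hw R I (fun e he => hu.cX_of_comm (S.tor e he) (by rw [← map_mul, ← map_mul, hc e he])) x
  rw [rep_injective _ _ h1] at hu
  exact hu.mem_T

/-- **the elements which invert `E` invert the centraliser** -/
theorem inv {c : G} (hc : ∀ e ∈ E, c * e * c⁻¹ = e⁻¹) {a : G} (ha : a ∈ Ce E) : c * a * c⁻¹ = a⁻¹ := by
  obtain ⟨w, hw, R, hM⟩ := S.exists_rho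
  obtain ⟨u, hu, I⟩ := S.norm hw hM (c := c) fun e he => by
    have h1 : c⁻¹ * e * c = e⁻¹ := by
      conv_lhs => rw [← inv_inv e, ← hc e⁻¹ (inv_mem he)]
      group
    rw [h1]
    exact inv_mem he
  have h0 : ∀ s ∈ 𝕋, ∀ x, cX hp s⁻¹ x = cX hp s (-x) := fun s hs x => by
    rw [(isMC_cX hp hs).neg]
    exact eq_inv_of_mul_eq_one_left (by rw [← cX_mul hp (inv_mem hs) hs, inv_mul_cancel, cX_one])
  have h1 := S.eq_of_iso hw R (u := -𝕣 u) ⟨fun a ha => (I.root a ha).neg, fun x => by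
    rw [LinearMap.neg_apply, ← map_neg, I.q, Q_eq, Q_eq]
    simp only [Pi.neg_apply]
    ring, fun x => by rw [LinearMap.neg_apply, LinearMap.neg_apply, I.comm, map_neg]⟩ fun e he x => by
      rw [LinearMap.neg_apply, ← h0 _ (S.tor e he), ← map_inv, ← hc e he, map_mul, map_mul, map_inv, hu.cX (S.tor e he)]
  have h2 := S.cent ha
  refine S.inj ?_
  rw [map_mul, map_mul, map_inv, map_inv]
  refine cX_inj hp (hu.conj_mem h2) (inv_mem h2) fun i => ?_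
  rw [h0 _ h2, ← hu.cX h2, map_neg, ← LinearMap.neg_apply, h1]

theorem comm {a b : G} (ha : a ∈ Ce E) (hb : b ∈ Ce E) : a * b = b * a :=
  S.inj (by rw [map_mul, map_mul, TT_comm hp _ (S.cent ha) _ (S.cent hb)])

theorem odd {c : G} (hc : c ∈ Ce E) (h : c * c = 1) : c = 1 := by
  refine S.inj (cX_inj hp (S.cent hc) (S.tor 1 E.one_mem) fun i => ?_)
  rw [map_one, cX_one]
  refine eq_one_of_pow (n := 1) ?_
  rw [pow_one, ← cX_pow hp (S.cent hc), ← map_pow, pow_two, h, map_one, cX_one]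

/-- the rank is two -/
theorem card_le {p : ℕ} [NeZero p] (he : ∀ e ∈ E, e ^ p = 1) : Nat.card E ≤ p ^ 2 := by
  obtain ⟨w, hw, R, -⟩ := S.exists_rho
  obtain ⟨g, hg⟩ := R.root _ (isRoot_sr 𝕔 hp.isCartan 0)
  have h1 : ∀ (e : E) v, cX hp (t e) v ^ p = 1 := fun e v => by
    rw [← cX_pow hp (S.tor e e.2), ← map_pow, he e e.2, map_one, cX_one]
  have h2 := Nat.card_le_card_of_injective (fun e : E => (rootsOfUnity.mkOfPowEq _ (h1 e (sr 0)),
    rootsOfUnity.mkOfPowEq _ (h1 e g))) fun a b hab => by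
      have key : ∀ v, cX hp (t a) v = cX hp (t b) v → cX hp (t (a * b⁻¹ : E)) v = 1 := fun v hv => by
        have h3 := cX_mul hp (S.tor _ (a * b⁻¹).2) (S.tor b b.2) v
        rw [← map_mul, ← Subgroup.coe_mul, inv_mul_cancel_right, hv] at h3
        exact (mul_eq_right₀ ((isMC_cX hp (S.tor b b.2)).ne_zero v)).1 h3.symm
      have h4 := hg.triv (isMC_cX hp (S.tor _ (a * b⁻¹).2)) (S.rho hw (S.tor _ (a * b⁻¹).2))
        (key _ (congrArg (fun z => ((z.1.1 : (KK 2)ˣ) : KK 2)) hab))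
        (key _ (congrArg (fun z => ((z.2.1 : (KK 2)ˣ) : KK 2)) hab))
      refine mul_inv_eq_one.1 (Subtype.ext (S.inj (cX_inj hp (S.tor _ (a * b⁻¹).2) (S.tor 1 E.one_mem) fun i => ?_)))
      rw [h4, OneMemClass.coe_one, map_one, cX_one]
  have h3 : Nat.card (rootsOfUnity p (KK 2)) ≤ p := card_rootsOfUnity _ _
  rw [Nat.card_prod] at h2
  rw [pow_two]
  exact h2.trans (Nat.mul_le_mul h3 h3)

end St

/-- a noncyclic group of exponent `p` has two elements which generate a noncyclic group -/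
theorem exists_pair {p : ℕ} [hp' : Fact p.Prime] {D : Subgroup G} (hn : ¬ IsCyclic D) (he : ∀ d ∈ D, d ^ p = 1) :
    ∃ z ∈ D, ∃ x ∈ D, ∀ E ≤ D, z ∈ E → x ∈ E → ¬ IsCyclic E := by
  have : Nontrivial D := by
    by_contra h1
    have := not_nontrivial_iff_subsingleton.1 h1
    exact hn inferInstance
  obtain ⟨z, hz⟩ := exists_ne (1 : D)
  have hz1 : (z : G) ≠ 1 := fun e => hz (Subtype.ext e)
  obtain ⟨x, hx⟩ : ∃ x : D, x ∉ Subgroup.zpowers z := by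
    by_contra h1
    push Not at h1
    exact hn ⟨z, h1⟩
  refine ⟨z, z.2, x, x.2, ?_⟩
  rintro E h3 h4 h5 ⟨g, hg⟩
  obtain ⟨a, ha⟩ := hg ⟨z, h4⟩
  obtain ⟨c, hc⟩ := hg ⟨x, h5⟩
  have ha' : (g : G) ^ a = z := congrArg Subtype.val ha
  have hc' : (g : G) ^ c = x := congrArg Subtype.val hc
  have h6 : orderOf (g : G) = p := orderOf_eq_prime (he _ (h3 g.2)) fun e => hz1 (by rw [← ha', e, one_zpow])
  obtain ⟨n, hn⟩ := mem_zpowers_of_prime_card (p := p) (G := Subgroup.zpowers (g : G)) ((Nat.card_zpowers _).trans h6)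
    (g := ⟨z, a, ha'⟩) (fun e => hz1 (congrArg Subtype.val e)) (g' := ⟨x, c, hc'⟩)
  have h7 : (z : G) ^ n = x := congrArg Subtype.val hn
  exact hx ⟨n, Subtype.ext h7⟩

/-- **Noncyclic elementary abelian subgroups of odd order of `²F₄(q)` are toral.** -/
theorem exists_st {K : Type} [Field K] [Fintype K] (hK : Fintype.card K = 2 ^ (2 * m + 1))
    (σ : G →* ↥(twistedF4 K (2 ^ m))) (hσ : Function.Injective σ) {p : ℕ} [hp' : Fact p.Prime] (h2 : p ≠ 2)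
    {D : Subgroup G} (hn : ¬ IsCyclic D) (he : ∀ d ∈ D, d ^ p = 1) (hD : D ≤ Ce D) :
    ∃ (t : G →* 𝕐) (n : 𝕐), St m t n D := by
  have := F4Fixed.charP_two hK
  let _ : Algebra (ZMod 2) K := ZMod.algebra K 2
  let f : K →+* KK 2 := (IsAlgClosed.lift (R := ZMod 2) (S := K) (M := KK 2)).toRingHom
  obtain ⟨z, hz, x, hx, h⟩ := exists_pair hn he
  have h0 : eF m f (σ x) * eF m f (σ z) = eF m f (σ z) * eF m f (σ x) := by
    rw [← map_mul, ← map_mul, ← map_mul, ← map_mul, hD hz x hx]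
  obtain ⟨L, h1, -, h3 | h3 | h3⟩ := exists_DD (p := 2) hp (Or.inl rfl) hp'.out h2 (z := eF m f (σ z))
    (by rw [← map_pow, ← map_pow, he z hz, map_one, map_one])
  · obtain ⟨g, g1, g2⟩ := (h1 _ h0 ⟨1, by rw [pow_one, ← map_pow, ← map_pow, he x hx, map_one, map_one]⟩).2 (h3 _ h0)
    let t : G →* 𝕐 := (MulAut.conj g).toMonoidHom.comp ((eF m f).comp σ)
    have hi : Function.Injective t := (MulAut.conj g).injective.comp ((eF_injective f).comp hσ)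
    have hf : ∀ y, g * ste (KK 2) m g⁻¹ * ste (KK 2) m (t y) * (g * ste (KK 2) m g⁻¹)⁻¹ = t y := fun y => by
      have h4 := tau hK f (z := g⁻¹) (n := g⁻¹⁻¹ * ste (KK 2) m g⁻¹) rfl (σ y)
      rwa [inv_inv] at h4
    have S : St m t (g * ste (KK 2) m g⁻¹) (D ⊓ (𝕋).comap t) :=
      ⟨hi, hf, fun e he => he.2, h _ inf_le_left ⟨hz, g1⟩ ⟨hx, g2⟩⟩
    exact ⟨t, _, hi, hf, fun e he => S.cent fun y hy => hD he y hy.1, hn⟩
  · exact absurd (congrArg ChevalleyDatum.nroots h3.1) (by decide +kernel)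
  · exact absurd (congrArg ChevalleyDatum.nroots h3.1) (by decide +kernel)

end Cfsg.Agent.TO.TF
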