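import Cfsg.Agent.TO.TF.Tab

/-!
# S4817, the row of `²F₄(q)`: the lattice (helper15)

* `lat` : for a twisted element `ρ`, the root lattice is (away from `2`) a cyclic module, or it is rigid;
* `Ct.triv` : characters which are trivial on two suitable vectors are trivial.
-/

set_option autoImplicit false

namespace Cfsg.Agent.TO.TF

open CoxeterSystem Cfsg Cfsg.Lie
open Cfsg.Agent.ChevalleyStructure Cfsg.Agent.ChevalleyStructure.CoxeterGeom
open Cfsg.Agent.Tits.Roots Cfsg.Agent.Tits.Core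
open Cfsg.Agent.H129.TorusChar Cfsg.Agent.H448.FprCent Cfsg.Agent.BHZ.Exc.TF
open Cfsg.Agent.H493.F4Tor (hp rv eN)

/-- the lattice -/
abbrev L4 : Type := Fin 4 → ℤ

/-- the matrix of a linear map -/
def mx (ρ : Module.End ℤ L4) : M4 := (tv (ρ (sr 0)), tv (ρ (sr 1)), tv (ρ (sr 2)), tv (ρ (sr 3)))

theorem ap_mx (ρ : Module.End ℤ L4) (x : L4) : ap (mx ρ) (tv x) = tv (ρ x) := by
  conv_rhs => rw [IsMC.eq_sum_sr x]
  simp only [map_add, map_smul, Fin.sum_univ_four, tv, ap, mx, Pi.add_apply, Pi.smul_apply, smul_eq_mul]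

/-- the vector with given coordinates -/
def vt (a : Z4) : L4 := ![a.1, a.2.1, a.2.2.1, a.2.2.2]

theorem tv_vt (a : Z4) : tv (vt a) = a := rfl

theorem tv_add (x y : L4) : tv (x + y) = ad (tv x) (tv y) := rfl

theorem tv_sub (x y : L4) : tv (x - y) = sb (tv x) (tv y) := rfl

theorem tv_Rl (x : L4) : tv (Rl 0 x) = rl (tv x) := by
  simp only [tv, rl, Rl_apply, Prod.mk.injEq]
  simp only [eN, rv, Matrix.cons_val]
  push_cast
  refine ⟨?_, ?_, ?_, ?_⟩ <;> ring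

/-- `x, ρ x, g, ρ g` span a lattice of index dividing `64` -/
def Ct (ρ : Module.End ℤ L4) (x g : L4) : Prop := pr (pl (tv x) (tv (ρ x))) (pl (tv g) (tv (ρ g))) ∣ 64

theorem ct_of {ρ : Module.End ℤ L4} {x g : L4} (h : cert (mx ρ) (tv x) (tv g) = true) : Ct ρ x g := by
  rw [cert, ap_mx, ap_mx, beq_iff_eq] at h
  exact Int.natAbs_dvd.1 (Int.natCast_dvd_natCast.2 (Nat.dvd_of_mod_eq_zero h))

theorem ct_of_c1 {ρ : Module.End ℤ L4} {x : L4} (h : c1 (mx ρ) (tv x) = true) : ∃ g, Ct ρ x g := by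
  obtain ⟨g, -, hg⟩ := List.any_eq_true.1 h
  exact ⟨vt g, ct_of hg⟩

variable {W : Type*} [Group W] (cs : CoxeterSystem CoxeterMatrix.F₄ W)

/-- an isometry which commutes with `ρ` -/
structure Iso (ρ u : Module.End ℤ L4) : Prop where
  root : ∀ a, IsRoot cs hp.isCartan a → IsRoot cs hp.isCartan (u a)
  q : ∀ x, Q (u x) = Q x
  comm : ∀ x, u (ρ x) = ρ (u x)

/-- the rigid case -/
structure Rig (ρ : Module.End ℤ L4) : Prop where
  root : ∀ a, IsRoot cs hp.isCartan a → ∃ g, Ct ρ a g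
  iso : ∀ u, Iso cs ρ u → (∀ x, u x = x) ∨ ∃ x g, Ct ρ (u x - x) g

theorem iso_of_l2 {ρ : Module.End ℤ L4} {a b : L4} (ha : IsRoot cs hp.isCartan a) (hb : IsRoot cs hp.isCartan b)
    (h : l2 (mx ρ) (tv a) (tv b) = true) {u : Module.End ℤ L4} (hu : Iso cs ρ u) :
    (∀ x, u x = x) ∨ ∃ x g, Ct ρ (u x - x) g := by
  rw [l2, Bool.and_eq_true] at h
  have q1 : ∀ x, qt (tv (u x)) = qt (tv x) := hu.q
  have q2 : ∀ x y, qt (ad (tv (u x)) (tv (u y))) = qt (ad (tv x) (tv y)) := fun x y => by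
    rw [← tv_add, ← tv_add, ← map_add, q1]
  have h1 := List.all_eq_true.1 h.2 _ ((root_iff cs).1 (hu.root a ha))
  simp only [ap_mx, ← hu.comm, q1, q2, beq_self_eq_true, Bool.and_self, Bool.not_true, Bool.false_or] at h1
  have h2 := List.all_eq_true.1 h1 _ ((root_iff cs).1 (hu.root b hb))
  simp only [ap_mx, ← hu.comm, q1, q2, beq_self_eq_true, Bool.and_self, Bool.not_true, Bool.false_or] at h2
  simp only [Bool.or_eq_true, Bool.and_eq_true, beq_iff_eq, ← tv_sub, ← tv_add] at h2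
  rcases h2 with ((h2 | h2) | h2) | h2
  · refine Or.inl fun x => ?_
    obtain ⟨n, hn⟩ := ct_of h.1
    have h3 := congrArg u (cramer a (ρ a) b (ρ b) x)
    simp only [map_add, map_smul, hu.comm, tv_inj h2.1, tv_inj h2.2] at h3
    rw [← cramer] at h3
    exact smul_right_injective _ (fun e => by rw [e, zero_mul] at hn; exact absurd hn (by norm_num)) h3
  · exact Or.inr ⟨a, ct_of_c1 h2⟩
  · exact Or.inr ⟨b, ct_of_c1 h2⟩
  · refine Or.inr ⟨a + b, ?_⟩
    rw [map_add, add_sub_add_comm]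
    exact ct_of_c1 h2

/-- **The alternative.** -/
theorem lat (w : W) : (∃ v, Ct (Rl 0 * rep cs hp.isCartan w) v
    ((Rl 0 * rep cs hp.isCartan w) ((Rl 0 * rep cs hp.isCartan w) v))) ∨ Rig cs (Rl 0 * rep cs hp.isCartan w) := by
  have hr : ∀ i, tv (rep cs hp.isCartan w (sr i)) ∈ RV := fun i =>
    (root_iff cs).1 ((isRoot_sr cs hp.isCartan i).act w)
  have q1 : ∀ x, qt (tv (rep cs hp.isCartan w x)) = qt (tv x) := Q_rep cs w
  have q2 : ∀ x y, qt (ad (tv (rep cs hp.isCartan w x)) (tv (rep cs hp.isCartan w y))) = qt (ad (tv x) (tv y)) :=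
    fun x y => by rw [← tv_add, ← tv_add, ← map_add, q1]
  have s0 : tv (sr 0) = (1, 0, 0, 0) := by decide
  have s1 : tv (sr 1) = (0, 1, 0, 0) := by decide
  have s2 : tv (sr 2) = (0, 0, 1, 0) := by decide
  have s3 : tv (sr 3) = (0, 0, 0, 1) := by decide
  have h0 := tab (hr 0)
  rw [row, q1, s0, Bool.or_eq_true] at h0
  have h1 := List.all_eq_true.1 (h0.resolve_left (by decide)) _ (hr 1)
  rw [q1, q2, s0, s1, Bool.or_eq_true] at h1
  have h2 := List.all_eq_true.1 (h1.resolve_left (by decide)) _ (hr 2)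
  rw [q1, q2, q2, s0, s1, s2, Bool.or_eq_true] at h2
  have h3 := List.all_eq_true.1 (h2.resolve_left (by decide)) _ (hr 3)
  rw [q1, q2, q2, q2, s0, s1, s2, s3, Bool.or_eq_true] at h3
  have h4 := h3.resolve_left (by decide)
  rw [← tv_Rl, ← tv_Rl, ← tv_Rl, ← tv_Rl] at h4
  generalize hρ : Rl 0 * rep cs hp.isCartan w = ρ
  have h5 : ok (mx ρ) = true := by
    rw [← hρ]
    exact h4
  rw [ok, Bool.or_eq_true, Bool.and_eq_true, Bool.or_eq_true, Bool.or_eq_true] at h5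
  rcases h5 with h5 | ⟨h5, h6⟩
  · obtain ⟨v, -, hv⟩ := List.any_eq_true.1 h5
    rw [← tv_vt v, ap_mx, ap_mx] at hv
    exact Or.inl ⟨_, ct_of hv⟩
  · refine Or.inr ⟨fun a ha => ct_of_c1 (List.all_eq_true.1 h5 _ ((root_iff cs).1 ha)), fun u hu => ?_⟩
    rw [← s0, ← s1, ← s2] at h6
    rcases h6 with (h6 | h6) | h6
    all_goals exact iso_of_l2 cs (isRoot_sr cs hp.isCartan _) (isRoot_sr cs hp.isCartan _) h6 hu

theorem eq_one_of_pow {k : Type*} [Field k] [CharP k 2] {a : k} {n : ℕ} (h : a ^ 2 ^ n = 1) : a = 1 := by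
  have : Fact (Nat.Prime 2) := ⟨Nat.prime_two⟩
  have h1 := (ExpChar.pow_prime_pow_mul_eq_one_iff 2 n 1 a).1 (by rwa [mul_one])
  rwa [pow_one] at h1

/-- **Characters trivial on `x` and `g` are trivial.** -/
theorem Ct.triv {ρ : Module.End ℤ L4} {x g : L4} (h : Ct ρ x g) {k : Type*} [Field k] [CharP k 2] {χ : L4 → k}
    (hχ : IsMC χ) {m : ℕ} (hρ : ∀ v, χ (ρ v) ^ 2 ^ m = χ v) (hx : χ x = 1) (hg : χ g = 1) (v : L4) : χ v = 1 := by
  have h1 : ∀ y, χ y = 1 → χ (ρ y) = 1 := fun y hy => eq_one_of_pow ((hρ y).trans hy)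
  obtain ⟨n, hn⟩ := h
  have h4 := congrArg χ (cramer x (ρ x) g (ρ g) v)
  rw [hχ.add, hχ.add, hχ.add, hχ.zsmul, hχ.zsmul, hχ.zsmul, hχ.zsmul, hχ.zsmul, hx, hg, h1 x hx, h1 g hg] at h4
  simp only [one_zpow, mul_one] at h4
  refine eq_one_of_pow (n := 6) ?_
  rw [← zpow_natCast]
  change χ v ^ (64 : ℤ) = 1
  rw [hn, zpow_mul, h4, one_zpow]

end Cfsg.Agent.TO.TF
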