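import Cfsg.Agent.BHZ.Exc.TF4W

/-!
# S4817, the row of `²F₄(q)`: the table of the twisted Weyl group elements (helper15)
-/

set_option autoImplicit false
set_option Elab.async false

namespace Cfsg.Agent.TO.TF

open Cfsg.Agent.BHZ.Exc.TF

/-- a matrix, given by its columns -/
abbrev M4 : Type := Z4 × Z4 × Z4 × Z4

/-- matrix times vector -/
def ap (M : M4) (x : Z4) : Z4 :=
  (x.1 * M.1.1 + x.2.1 * M.2.1.1 + x.2.2.1 * M.2.2.1.1 + x.2.2.2 * M.2.2.2.1,
   x.1 * M.1.2.1 + x.2.1 * M.2.1.2.1 + x.2.2.1 * M.2.2.1.2.1 + x.2.2.2 * M.2.2.2.2.1,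
   x.1 * M.1.2.2.1 + x.2.1 * M.2.1.2.2.1 + x.2.2.1 * M.2.2.1.2.2.1 + x.2.2.2 * M.2.2.2.2.2.1,
   x.1 * M.1.2.2.2 + x.2.1 * M.2.1.2.2.2 + x.2.2.1 * M.2.2.1.2.2.2 + x.2.2.2 * M.2.2.2.2.2.2)

/-- the twist -/
def rl (x : Z4) : Z4 := (2 * x.2.2.2, 2 * x.2.2.1, x.2.1, x.1)

/-- the difference -/
def sb (x y : Z4) : Z4 := (x.1 - y.1, x.2.1 - y.2.1, x.2.2.1 - y.2.2.1, x.2.2.2 - y.2.2.2)

/-- `x, M x, g, M g` span a lattice of index dividing `64` -/
def cert (M : M4) (x g : Z4) : Bool := 64 % (pr (pl x (ap M x)) (pl g (ap M g))).natAbs == 0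

/-- the candidates -/
def CL : List Z4 := [(1, 0, 0, 0), (0, 1, 0, 0), (0, 0, 1, 0), (0, 0, 0, 1), (-2, -4, -3, -2), (-2, -4, -3, -1),
  (-2, -4, -2, -1), (-2, -3, -2, -1), (-2, -2, -2, -1), (-1, -1, -1, -1), (-1, -1, -1, 0)]

/-- some candidate completes `x` -/
def c1 (M : M4) (x : Z4) : Bool := CL.any fun g => cert M x g

/-- the isometries which commute with `M` -/
def l2 (M : M4) (u v : Z4) : Bool := cert M u v && RV.all fun a =>
  !(qt a == qt u && qt (ad a (ap M a)) == qt (ad u (ap M u))) || RV.all fun b =>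
    !(qt b == qt v && qt (ad a b) == qt (ad u v) && qt (ad a (ap M b)) == qt (ad u (ap M v)) &&
      qt (ad b (ap M b)) == qt (ad v (ap M v))) ||
      ((a == u && b == v) || c1 M (sb a u) || c1 M (sb b v) || c1 M (ad (sb a u) (sb b v)))

/-- the alternative -/
def ok (M : M4) : Bool := (CL.any fun v => cert M v (ap M (ap M v))) ||
  (RV.all (c1 M) && (l2 M (1, 0, 0, 0) (0, 1, 0, 0) || l2 M (0, 1, 0, 0) (0, 0, 1, 0) || l2 M (1, 0, 0, 0) (0, 0, 1, 0)))

/-- all the elements with the first column `a` -/
def row (a : Z4) : Bool := !(qt a == 1) || RV.all fun b => !(qt b == 1 && qt (ad a b) == 1) || RV.all fun c =>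
  !(qt c == 2 && qt (ad a c) == 3 && qt (ad b c) == 1) || RV.all fun d =>
    !(qt d == 2 && qt (ad a d) == 3 && qt (ad b d) == 3 && qt (ad c d) == 2) || ok (rl a, rl b, rl c, rl d)

theorem t0 : ((RV.drop 0).take 2).all row = true := by decide +kernel

theorem t1 : ((RV.drop 2).take 2).all row = true := by decide +kernel

theorem t2 : ((RV.drop 4).take 2).all row = true := by decide +kernel

theorem t3 : ((RV.drop 6).take 2).all row = true := by decide +kernel

theorem t4 : ((RV.drop 8).take 2).all row = true := by decide +kernel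

theorem t5 : ((RV.drop 10).take 2).all row = true := by decide +kernel

theorem t6 : ((RV.drop 12).take 2).all row = true := by decide +kernel

theorem t7 : ((RV.drop 14).take 2).all row = true := by decide +kernel

theorem t8 : ((RV.drop 16).take 2).all row = true := by decide +kernel

theorem t9 : ((RV.drop 18).take 2).all row = true := by decide +kernel

theorem t10 : ((RV.drop 20).take 2).all row = true := by decide +kernel

theorem t11 : ((RV.drop 22).take 2).all row = true := by decide +kernel

theorem t12 : ((RV.drop 24).take 2).all row = true := by decide +kernel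

theorem t13 : ((RV.drop 26).take 2).all row = true := by decide +kernel

theorem t14 : ((RV.drop 28).take 2).all row = true := by decide +kernel

theorem t15 : ((RV.drop 30).take 2).all row = true := by decide +kernel

theorem t16 : ((RV.drop 32).take 2).all row = true := by decide +kernel

theorem t17 : ((RV.drop 34).take 2).all row = true := by decide +kernel

theorem t18 : ((RV.drop 36).take 2).all row = true := by decide +kernel

theorem t19 : ((RV.drop 38).take 2).all row = true := by decide +kernel

theorem t20 : ((RV.drop 40).take 2).all row = true := by decide +kernel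

theorem t21 : ((RV.drop 42).take 2).all row = true := by decide +kernel

theorem t22 : ((RV.drop 44).take 2).all row = true := by decide +kernel

theorem t23 : ((RV.drop 46).take 2).all row = true := by decide +kernel

theorem cover : ∀ a ∈ RV, ∃ i < 24, a ∈ (RV.drop (2 * i)).take 2 := by decide +kernel

theorem tab {a : Z4} (ha : a ∈ RV) : row a = true := by
  obtain ⟨i, hi, h⟩ := cover a ha
  interval_cases i
  exacts [List.all_eq_true.1 t0 a h, List.all_eq_true.1 t1 a h, List.all_eq_true.1 t2 a h, List.all_eq_true.1 t3 a h,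
    List.all_eq_true.1 t4 a h, List.all_eq_true.1 t5 a h, List.all_eq_true.1 t6 a h, List.all_eq_true.1 t7 a h,
    List.all_eq_true.1 t8 a h, List.all_eq_true.1 t9 a h, List.all_eq_true.1 t10 a h, List.all_eq_true.1 t11 a h,
    List.all_eq_true.1 t12 a h, List.all_eq_true.1 t13 a h, List.all_eq_true.1 t14 a h, List.all_eq_true.1 t15 a h,
    List.all_eq_true.1 t16 a h, List.all_eq_true.1 t17 a h, List.all_eq_true.1 t18 a h, List.all_eq_true.1 t19 a h,
    List.all_eq_true.1 t20 a h, List.all_eq_true.1 t21 a h, List.all_eq_true.1 t22 a h, List.all_eq_true.1 t23 a h]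

end Cfsg.Agent.TO.TF
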